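import Mathlib
import Cfsg.Agent.Lib.Helper9.BG1356.Defs
import Cfsg.Agent.S1446
import Cfsg.Agent.Lib.Helper1.MixBase
import Cfsg.Agent.Lib.Helper35.BG.Hall

/-!
PkgB of the S1356 team project (helper9's note): a Frobenius group `D ⋊ R` acting on a `q`-group
`Q` with `Q / C_Q(D)` chief of order `q ^ p`; then `D'` centralizes `Q`.
-/

set_option autoImplicit false

namespace Cfsg.Agent.Lib.Helper57.BG1356

open Cfsg
open scoped commutatorElement

universe u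

section Generic

variable {G : Type u} [Group G]

/-- A subgroup all of whose elements conjugate `N` into itself normalizes `N`. -/
theorem le_normalizer_of_conj_mem' {A N : Subgroup G}
    (h : ∀ g ∈ A, ∀ x ∈ N, g * x * g⁻¹ ∈ N) : A ≤ Subgroup.normalizer (N : Set G) := by
  intro g hg
  rw [Subgroup.mem_normalizer_iff]
  intro x
  constructor
  · exact h g hg x
  · intro hx
    have h1 := h g⁻¹ (A.inv_mem hg) _ hx
    have h2 : g⁻¹ * (g * x * g⁻¹) * g⁻¹⁻¹ = x := by group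
    rw [h2] at h1
    exact h1

theorem conj_mem_of_mem_normalizer' {N : Subgroup G} {g x : G}
    (hg : g ∈ Subgroup.normalizer (N : Set G)) (hx : x ∈ N) : g * x * g⁻¹ ∈ N :=
  (Subgroup.mem_normalizer_iff.mp hg x).mp hx

/-- The normalizer of `H` normalizes the centralizer of `H`. -/
theorem conj_mem_centralizer_of_mem_normalizer' {H : Subgroup G} {g c : G}
    (hg : g ∈ Subgroup.normalizer (H : Set G)) (hc : c ∈ Subgroup.centralizer (H : Set G)) :
    g * c * g⁻¹ ∈ Subgroup.centralizer (H : Set G) := by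
  rw [Subgroup.mem_centralizer_iff] at hc ⊢
  intro h hh
  have h1 : g⁻¹ * h * g ∈ H := by
    have h2 := conj_mem_of_mem_normalizer' (Subgroup.inv_mem _ hg) hh
    rw [inv_inv] at h2
    exact h2
  have h2 := hc _ h1
  calc h * (g * c * g⁻¹) = g * ((g⁻¹ * h * g) * c) * g⁻¹ := by group
    _ = g * (c * (g⁻¹ * h * g)) * g⁻¹ := by rw [h2]
    _ = g * c * g⁻¹ * h := by group

/-- In a subgroup of prime order, whatever commutes with a nontrivial element centralizes the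
subgroup. -/
theorem mem_centralizer_of_commute_of_prime_card {R : Subgroup G} (hp : (Nat.card R).Prime)
    {r : G} (hr : r ∈ R) (hr1 : r ≠ 1) {d : G} (hd : Commute d r) :
    d ∈ Subgroup.centralizer (R : Set G) := by
  have : Fact (Nat.card R).Prime := ⟨hp⟩
  have hne : (⟨r, hr⟩ : R) ≠ 1 := by
    intro h
    exact hr1 (congrArg Subtype.val h)
  have htop := zpowers_eq_top_of_prime_card (G := R) rfl hne
  rw [Subgroup.mem_centralizer_iff]
  intro y hy
  have hy' : (⟨y, hy⟩ : R) ∈ Subgroup.zpowers (⟨r, hr⟩ : R) := by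
    rw [htop]; exact Subgroup.mem_top _
  obtain ⟨k, hk⟩ := Subgroup.mem_zpowers_iff.mp hy'
  have hk' : r ^ k = y := by
    have := congrArg Subtype.val hk
    simpa using this
  rw [← hk']
  exact (hd.zpow_right k).symm.eq

/-- The coprime trick: if `d ∈ D` moves `x ∈ Q` by an element of `C_Q(D)`, `Q` a `q`-group and
`q ∤ |D|`, then `d` fixes `x`. -/
theorem commute_of_conj_mul_inv_mem [Finite G] {Q D : Subgroup G} {q : ℕ} (hq : q.Prime)
    (hQ : IsPGroup q Q) (hqD : ¬ q ∣ Nat.card D) {d x : G} (hd : d ∈ D)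
    (hz : x⁻¹ * d * x * d⁻¹ ∈ Q ⊓ Subgroup.centralizer (D : Set G)) : d * x = x * d := by
  obtain ⟨z, hzdef⟩ : ∃ z : G, z = x⁻¹ * d * x * d⁻¹ := ⟨_, rfl⟩
  rw [← hzdef] at hz
  have hdx : d * x = x * z * d := by rw [hzdef]; group
  have hdz : Commute d z := by
    have := (Subgroup.mem_centralizer_iff.mp hz.2) d hd
    exact this
  have key : ∀ n : ℕ, d ^ n * x = x * z ^ n * d ^ n := by
    intro n
    induction n with
    | zero => simp
    | succ n ih =>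
      have h1 : d * z ^ n = z ^ n * d := (hdz.pow_right n).eq
      calc d ^ (n + 1) * x = d * (d ^ n * x) := by rw [pow_succ']; group
        _ = d * (x * z ^ n * d ^ n) := by rw [ih]
        _ = (d * x) * z ^ n * d ^ n := by group
        _ = x * z * (d * z ^ n) * d ^ n := by rw [hdx]; group
        _ = x * z * (z ^ n * d) * d ^ n := by rw [h1]
        _ = x * z ^ (n + 1) * d ^ (n + 1) := by rw [pow_succ' z, pow_succ' d]; group
  have h1 := key (orderOf d)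
  rw [pow_orderOf_eq_one, one_mul, mul_one] at h1
  have h2 : z ^ orderOf d = 1 := by
    have : x * 1 = x * z ^ orderOf d := by rw [mul_one]; exact h1
    exact (mul_left_cancel this).symm
  have h3 : orderOf z ∣ orderOf d := orderOf_dvd_of_pow_eq_one h2
  have h4 : orderOf d ∣ Nat.card D := Subgroup.orderOf_dvd_natCard D hd
  obtain ⟨k, hk⟩ := hQ ⟨z, hz.1⟩
  have hk' : z ^ q ^ k = 1 := by
    have := congrArg Subtype.val hk
    simpa using this
  have h5 : orderOf z ∣ q ^ k := orderOf_dvd_of_pow_eq_one hk'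
  have hcop : (q ^ k).Coprime (Nat.card D) :=
    Nat.Coprime.pow_left k ((Nat.Prime.coprime_iff_not_dvd hq).mpr hqD)
  have h6 : orderOf z = 1 := Nat.eq_one_of_dvd_coprimes hcop h5 (h3.trans h4)
  have h7 : z = 1 := orderOf_eq_one_iff.mp h6
  rw [hdx, h7, mul_one]

theorem eq_one_of_mem_of_coprime_card [Finite G] {A B : Subgroup G}
    (h : (Nat.card A).Coprime (Nat.card B)) {x : G} (hA : x ∈ A) (hB : x ∈ B) : x = 1 :=
  orderOf_eq_one_iff.mp (Nat.eq_one_of_dvd_coprimes h (Subgroup.orderOf_dvd_natCard A hA)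
    (Subgroup.orderOf_dvd_natCard B hB))

end Generic

section Image

variable {G : Type u} [Group G] {X : Type u} [Group X]

/-- The image under `φ : N0 →* X` of the part of `A` inside `N0`. -/
def pkgBIm (N0 : Subgroup G) (φ : N0 →* X) (A : Subgroup G) : Subgroup X :=
  (A.subgroupOf N0).map φ

theorem mem_pkgBIm {N0 : Subgroup G} {φ : N0 →* X} {A : Subgroup G} {y : X} :
    y ∈ pkgBIm N0 φ A ↔ ∃ a : N0, (a : G) ∈ A ∧ φ a = y := by
  unfold pkgBIm
  rw [Subgroup.mem_map]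
  constructor
  · rintro ⟨a, ha, rfl⟩
    exact ⟨a, Subgroup.mem_subgroupOf.mp ha, rfl⟩
  · rintro ⟨a, ha, rfl⟩
    exact ⟨a, Subgroup.mem_subgroupOf.mpr ha, rfl⟩

theorem map_mem_pkgBIm {N0 : Subgroup G} {φ : N0 →* X} {A : Subgroup G} {a : N0}
    (ha : (a : G) ∈ A) : φ a ∈ pkgBIm N0 φ A :=
  mem_pkgBIm.mpr ⟨a, ha, rfl⟩

theorem pkgBIm_mono {N0 : Subgroup G} {φ : N0 →* X} {A B : Subgroup G} (h : A ≤ B) :
    pkgBIm N0 φ A ≤ pkgBIm N0 φ B := by
  intro y hy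
  obtain ⟨a, ha, rfl⟩ := mem_pkgBIm.mp hy
  exact map_mem_pkgBIm (h ha)

theorem pkgBIm_le_normalizer {N0 : Subgroup G} {φ : N0 →* X} {A B : Subgroup G}
    (h : A ≤ Subgroup.normalizer (B : Set G)) :
    pkgBIm N0 φ A ≤ Subgroup.normalizer (pkgBIm N0 φ B : Set X) := by
  apply le_normalizer_of_conj_mem'
  intro y hy z hz
  obtain ⟨a, ha, rfl⟩ := mem_pkgBIm.mp hy
  obtain ⟨b, hb, rfl⟩ := mem_pkgBIm.mp hz
  rw [← map_inv, ← map_mul, ← map_mul]
  apply map_mem_pkgBIm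
  exact conj_mem_of_mem_normalizer' (h ha) hb

theorem card_pkgBIm_dvd {N0 : Subgroup G} (φ : N0 →* X) {A : Subgroup G} (hA : A ≤ N0) :
    Nat.card (pkgBIm N0 φ A) ∣ Nat.card A := by
  have h1 : Nat.card ((A.subgroupOf N0).map φ) ∣ Nat.card (A.subgroupOf N0) :=
    Subgroup.card_map_dvd _ φ
  rw [Nat.card_congr (Subgroup.subgroupOfEquivOfLe hA).toEquiv] at h1
  exact h1

end Image

/-- PkgB with an abstract quotient map `φ : N0 →* X` whose kernel is `Q0 = C_Q(D)`. -/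
theorem pkgB_aux {G : Type u} [Group G] [Finite G] {X : Type u} [Group X] [Finite X]
    (Q D R Q0 N0 : Subgroup G) (φ : N0 →* X) (p q : ℕ)
    (hker : ∀ a : N0, φ a = 1 ↔ (a : G) ∈ Q0)
    (hQN : Q ≤ N0) (hDN : D ≤ N0) (hRN : R ≤ N0)
    (hQ0def : Q0 = Q ⊓ Subgroup.centralizer (D : Set G))
    (hodd : Odd (Nat.card G)) (hp : p.Prime) (hq : q.Prime) (hpq : p ≠ q)
    (hsolv : Group.IsSolvable ↥(Q ⊔ D ⊔ R))
    (hQ : IsPGroup q Q)
    (hDQ : D ≤ Subgroup.normalizer (Q : Set G)) (hRQ : R ≤ Subgroup.normalizer (Q : Set G))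
    (hRD : R ≤ Subgroup.normalizer (D : Set G))
    (hRcard : Nat.card R = p) (hqD : ¬ q ∣ Nat.card D) (hpD : ¬ p ∣ Nat.card D)
    (hDR : D ⊓ Subgroup.centralizer (R : Set G) = ⊥)
    (hQ0lt : Q0 < Q)
    (hcard : Nat.card Q = Nat.card Q0 * q ^ p)
    (hcomm : ∀ a ∈ Q, ∀ b ∈ Q, a * b * a⁻¹ * b⁻¹ ∈ Q0)
    (hmin : ∀ N : Subgroup G, Q0 < N → N < Q →
      ¬ (Q ⊔ D ⊔ R ≤ Subgroup.normalizer (N : Set G))) :
    ⁅D, D⁆ ≤ Subgroup.centralizer (Q : Set G) := by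
  have hpF : Fact p.Prime := ⟨hp⟩
  have hqF : Fact q.Prime := ⟨hq⟩
  have hQ0Q : Q0 ≤ Q := hQ0lt.le
  -- commuting images give commuting elements
  have htrick : ∀ d : N0, (d : G) ∈ D → ∀ x : N0, (x : G) ∈ Q →
      φ d * φ x = φ x * φ d → (d : G) * x = x * d := by
    intro d hd x hx hc
    apply commute_of_conj_mul_inv_mem hq hQ hqD hd
    rw [← hQ0def]
    have h1 : φ (x⁻¹ * d * x * d⁻¹) = 1 := by
      rw [map_mul, map_mul, map_mul, map_inv, map_inv]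
      calc (φ x)⁻¹ * φ d * φ x * (φ d)⁻¹ = (φ x)⁻¹ * (φ d * φ x) * (φ d)⁻¹ := by group
        _ = (φ x)⁻¹ * (φ x * φ d) * (φ d)⁻¹ := by rw [hc]
        _ = 1 := by group
    exact (hker _).mp h1
  -- the image of `Q` is commutative
  have hQab : ∀ a ∈ pkgBIm N0 φ Q, ∀ b ∈ pkgBIm N0 φ Q, a * b = b * a := by
    intro a' ha' b' hb'
    obtain ⟨a, ha, rfl⟩ := mem_pkgBIm.mp ha'
    obtain ⟨b, hb, rfl⟩ := mem_pkgBIm.mp hb'
    have h1 : φ (a * b * a⁻¹ * b⁻¹) = 1 := (hker _).mpr (hcomm a ha b hb)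
    rw [map_mul, map_mul, map_mul, map_inv, map_inv] at h1
    calc φ a * φ b = (φ a * φ b * (φ a)⁻¹ * (φ b)⁻¹) * (φ b * φ a) := by group
      _ = φ b * φ a := by rw [h1, one_mul]
  -- coprimality
  obtain ⟨n0, hn0⟩ := IsPGroup.iff_card.mp (hQ.to_le hQ0Q)
  have hcopD : (Nat.card D).Coprime (Nat.card Q0) := by
    rw [hn0]
    exact Nat.Coprime.pow_right n0 ((Nat.Prime.coprime_iff_not_dvd hq).mpr hqD).symm
  have hcopR : (Nat.card R).Coprime (Nat.card Q0) := by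
    rw [hn0, hRcard]
    exact Nat.Coprime.pow_right n0 ((Nat.coprime_primes hp hq).mpr hpq)
  have hcopDR : (Nat.card D).Coprime (Nat.card R) := by
    rw [hRcard]
    exact ((Nat.Prime.coprime_iff_not_dvd hp).mpr hpD).symm
  -- nontriviality
  have hD1 : D ≠ ⊥ := by
    intro h
    apply hQ0lt.ne
    rw [hQ0def]
    apply le_antisymm inf_le_left
    intro x hx
    refine Subgroup.mem_inf.mpr ⟨hx, ?_⟩
    rw [Subgroup.mem_centralizer_iff]
    intro y hy
    have hy1 : y = 1 := by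
      have : y ∈ D := hy
      rw [h, Subgroup.mem_bot] at this
      exact this
    rw [hy1, one_mul, mul_one]
  have hR1 : R ≠ ⊥ := by
    intro h
    rw [h, Subgroup.card_bot] at hRcard
    exact hp.one_lt.ne hRcard
  have hKD1 : pkgBIm N0 φ D ≠ ⊥ := by
    intro h
    obtain ⟨d, hd, hd1⟩ := (Subgroup.ne_bot_iff_exists_ne_one (H := D)).mp hD1 |>.imp
      (fun a ha => ha) |> fun ⟨a, ha⟩ => (⟨a.1, a.2, fun h1 => ha (Subtype.ext h1)⟩ :
        ∃ d : G, d ∈ D ∧ d ≠ 1)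
    have h1 : φ ⟨d, hDN hd⟩ ∈ pkgBIm N0 φ D := map_mem_pkgBIm hd
    rw [h, Subgroup.mem_bot] at h1
    exact hd1 (eq_one_of_mem_of_coprime_card hcopD hd ((hker _).mp h1))
  have hKR1 : pkgBIm N0 φ R ≠ ⊥ := by
    intro h
    obtain ⟨r, hr, hr1⟩ := (Subgroup.ne_bot_iff_exists_ne_one (H := R)).mp hR1 |>.imp
      (fun a ha => ha) |> fun ⟨a, ha⟩ => (⟨a.1, a.2, fun h1 => ha (Subtype.ext h1)⟩ :
        ∃ r : G, r ∈ R ∧ r ≠ 1)
    have h1 : φ ⟨r, hRN hr⟩ ∈ pkgBIm N0 φ R := map_mem_pkgBIm hr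
    rw [h, Subgroup.mem_bot] at h1
    exact hr1 (eq_one_of_mem_of_coprime_card hcopR hr ((hker _).mp h1))
  have hcardKD : Nat.card (pkgBIm N0 φ D) ∣ Nat.card D := card_pkgBIm_dvd φ hDN
  have hcardKR' : Nat.card (pkgBIm N0 φ R) ∣ Nat.card R := card_pkgBIm_dvd φ hRN
  have hcardKR : Nat.card (pkgBIm N0 φ R) = p := by
    rw [hRcard] at hcardKR'
    rcases (Nat.dvd_prime hp).mp hcardKR' with h | h
    · exact absurd (Subgroup.card_eq_one.mp h) hKR1
    · exact h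
  have hKRbot : pkgBIm N0 φ D ⊓ pkgBIm N0 φ R = ⊥ := by
    apply Disjoint.eq_bot
    apply Subgroup.disjoint_of_coprime_natCard
    exact Nat.Coprime.coprime_dvd_left hcardKD (Nat.Coprime.coprime_dvd_right hcardKR' hcopDR)
  have hRK : pkgBIm N0 φ R ≤ Subgroup.normalizer (pkgBIm N0 φ D : Set X) :=
    pkgBIm_le_normalizer hRD
  have hKM : pkgBIm N0 φ D ≤ Subgroup.normalizer (pkgBIm N0 φ Q : Set X) :=
    pkgBIm_le_normalizer hDQ
  have hRM : pkgBIm N0 φ R ≤ Subgroup.normalizer (pkgBIm N0 φ Q : Set X) :=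
    pkgBIm_le_normalizer hRQ
  -- Frobenius condition
  have hfrob : ∀ r ∈ pkgBIm N0 φ R, r ≠ 1 →
      pkgBIm N0 φ D ⊓ Subgroup.centralizer ({r} : Set X) = ⊥ := by
    intro r' hr' hr'1
    obtain ⟨r, hr, rfl⟩ := mem_pkgBIm.mp hr'
    rw [eq_bot_iff]
    intro y hy
    obtain ⟨d, hd, rfl⟩ := mem_pkgBIm.mp hy.1
    have hc : φ r * φ d = φ d * φ r :=
      (Subgroup.mem_centralizer_iff.mp hy.2) (φ r) (Set.mem_singleton _)
    have h1 : φ (d * r * d⁻¹ * r⁻¹) = 1 := by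
      rw [map_mul, map_mul, map_mul, map_inv, map_inv]
      calc φ d * φ r * (φ d)⁻¹ * (φ r)⁻¹ = (φ d * φ r) * (φ d)⁻¹ * (φ r)⁻¹ := by group
        _ = (φ r * φ d) * (φ d)⁻¹ * (φ r)⁻¹ := by rw [hc]
        _ = 1 := by group
    have h2 : ((d : G) * r * (d : G)⁻¹ * (r : G)⁻¹) ∈ Q0 := (hker _).mp h1
    have h3 : ((d : G) * r * (d : G)⁻¹ * (r : G)⁻¹) ∈ D := by
      have h4 : (r : G) * (d : G)⁻¹ * (r : G)⁻¹ ∈ D :=
        conj_mem_of_mem_normalizer' (hRD hr) (D.inv_mem hd)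
      have h5 : (d : G) * r * (d : G)⁻¹ * (r : G)⁻¹ = d * ((r : G) * (d : G)⁻¹ * (r : G)⁻¹) := by
        group
      rw [h5]
      exact D.mul_mem hd h4
    have h6 : (d : G) * r * (d : G)⁻¹ * (r : G)⁻¹ = 1 :=
      eq_one_of_mem_of_coprime_card hcopD h3 h2
    have h7 : Commute (d : G) (r : G) := by
      have h8 : (d : G) * r = ((d : G) * r * (d : G)⁻¹ * (r : G)⁻¹) * (r * d) := by group
      rw [h6, one_mul] at h8
      exact h8
    have hr1 : (r : G) ≠ 1 := by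
      intro h
      apply hr'1
      have h9 : r = 1 := Subtype.ext h
      rw [h9, map_one]
    have h8 : (d : G) ∈ D ⊓ Subgroup.centralizer (R : Set G) :=
      ⟨hd, mem_centralizer_of_commute_of_prime_card (by rw [hRcard]; exact hp) hr hr1 h7⟩
    rw [hDR, Subgroup.mem_bot] at h8
    rw [Subgroup.mem_bot]
    have h9 : d = 1 := Subtype.ext h8
    rw [h9, map_one]
  -- solvability and oddness
  have hsolvX : Group.IsSolvable ↥(pkgBIm N0 φ D ⊔ pkgBIm N0 φ R) := by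
    have hL : Q ⊔ D ⊔ R ≤ N0 := sup_le (sup_le hQN hDN) hRN
    have h1 : Group.IsSolvable ↥((Q ⊔ D ⊔ R).subgroupOf N0) :=
      Group.isSolvable_of_isSolvable_injective (f := (Subgroup.subgroupOfEquivOfLe hL).toMonoidHom)
        (Subgroup.subgroupOfEquivOfLe hL).injective
    have h2 : Group.IsSolvable ↥(pkgBIm N0 φ (Q ⊔ D ⊔ R)) :=
      Group.isSolvable_of_surjective (φ.subgroupMap_surjective ((Q ⊔ D ⊔ R).subgroupOf N0))
    have h3 : pkgBIm N0 φ D ⊔ pkgBIm N0 φ R ≤ pkgBIm N0 φ (Q ⊔ D ⊔ R) :=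
      sup_le (pkgBIm_mono (le_sup_right.trans le_sup_left)) (pkgBIm_mono le_sup_right)
    exact Group.isSolvable_of_isSolvable_injective (Subgroup.inclusion_injective h3)
  have hcardDR : Nat.card ↥(pkgBIm N0 φ D ⊔ pkgBIm N0 φ R) ∣ Nat.card R * Nat.card D := by
    have h1 := Cfsg.Agent.Lib.Helper1.Mix.card_sup_dvd (pkgBIm N0 φ R) (pkgBIm N0 φ D) hRK
    rw [sup_comm] at h1
    exact h1.trans (Nat.mul_dvd_mul hcardKR' hcardKD)
  have hoddX : Odd (Nat.card ↥(pkgBIm N0 φ D ⊔ pkgBIm N0 φ R)) := by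
    have h1 : Odd (Nat.card R) := Odd.of_dvd_nat hodd (Subgroup.card_subgroup_dvd_card R)
    have h2 : Odd (Nat.card D) := Odd.of_dvd_nat hodd (Subgroup.card_subgroup_dvd_card D)
    exact Odd.of_dvd_nat (h1.mul h2) hcardDR
  -- the image of `Q`
  have hMp : IsPGroup q (pkgBIm N0 φ Q) := (hQ.comap_subtype (K := N0)).map φ
  have hM1 : pkgBIm N0 φ Q ≠ ⊥ := by
    intro h
    obtain ⟨x, hxQ, hxQ0⟩ := SetLike.exists_of_lt hQ0lt
    have h1 : φ ⟨x, hQN hxQ⟩ ∈ pkgBIm N0 φ Q := map_mem_pkgBIm hxQ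
    rw [h, Subgroup.mem_bot] at h1
    exact hxQ0 ((hker _).mp h1)
  have hMn : Group.IsNilpotent ↥(pkgBIm N0 φ Q) := hMp.isNilpotent
  obtain ⟨m0, hm0⟩ := IsPGroup.iff_card.mp hMp
  have hcop : (Nat.card ↥(pkgBIm N0 φ D ⊔ pkgBIm N0 φ R)).Coprime (Nat.card (pkgBIm N0 φ Q)) := by
    rw [hm0]
    apply Nat.Coprime.coprime_dvd_left hcardDR
    apply Nat.Coprime.pow_right
    apply Nat.Coprime.mul_left
    · rw [hRcard]; exact (Nat.coprime_primes hp hq).mpr hpq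
    · exact ((Nat.Prime.coprime_iff_not_dvd hq).mpr hqD).symm
  -- `C_{Q/Q0}(D) = 1`
  have hCK : pkgBIm N0 φ Q ⊓ Subgroup.centralizer (pkgBIm N0 φ D : Set X) = ⊥ := by
    obtain ⟨C', hC'def⟩ : ∃ C' : Subgroup X,
        C' = pkgBIm N0 φ Q ⊓ Subgroup.centralizer (pkgBIm N0 φ D : Set X) := ⟨_, rfl⟩
    rw [← hC'def]
    obtain ⟨N, hNdef⟩ : ∃ N : Subgroup G, N = ((C'.comap φ).map N0.subtype) ⊓ Q := ⟨_, rfl⟩
    have hmemN : ∀ x : G, x ∈ N ↔ x ∈ Q ∧ ∃ h : x ∈ N0, φ ⟨x, h⟩ ∈ C' := by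
      intro x
      rw [hNdef, Subgroup.mem_inf, Subgroup.mem_map]
      constructor
      · rintro ⟨⟨a, ha, rfl⟩, hxQ⟩
        exact ⟨hxQ, a.2, ha⟩
      · rintro ⟨hxQ, h, hx⟩
        exact ⟨⟨⟨x, h⟩, hx, rfl⟩, hxQ⟩
    have hQ0N : Q0 ≤ N := by
      intro x hx
      rw [hmemN]
      refine ⟨hQ0Q hx, hQN (hQ0Q hx), ?_⟩
      have h1 : φ ⟨x, hQN (hQ0Q hx)⟩ = 1 := (hker _).mpr hx
      rw [h1]
      exact C'.one_mem
    have hNQ : N ≤ Q := fun x hx => ((hmemN x).mp hx).1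
    have hC'norm : ∀ A : Subgroup G, A ≤ N0 → A ≤ Subgroup.normalizer (Q : Set G) →
        pkgBIm N0 φ A ≤ Subgroup.normalizer (C' : Set X) →
        A ≤ Subgroup.normalizer (N : Set G) := by
      intro A hAN hAQ hA
      apply le_normalizer_of_conj_mem'
      intro g hg x hx
      obtain ⟨hxQ, hxN, hxC⟩ := (hmemN x).mp hx
      rw [hmemN]
      refine ⟨conj_mem_of_mem_normalizer' (hAQ hg) hxQ,
        N0.mul_mem (N0.mul_mem (hAN hg) hxN) (N0.inv_mem (hAN hg)), ?_⟩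
      have h1 : φ ((⟨g, hAN hg⟩ : N0) * ⟨x, hxN⟩ * (⟨g, hAN hg⟩ : N0)⁻¹) ∈ C' := by
        rw [map_mul, map_mul, map_inv]
        exact conj_mem_of_mem_normalizer'
          (hA (map_mem_pkgBIm (N0 := N0) (φ := φ) (a := ⟨g, hAN hg⟩) hg)) hxC
      exact h1
    have hQC' : pkgBIm N0 φ Q ≤ Subgroup.normalizer (C' : Set X) := by
      apply le_normalizer_of_conj_mem'
      intro y hy z hz
      have hz' : z ∈ pkgBIm N0 φ Q := by rw [hC'def] at hz; exact hz.1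
      have h1 : y * z * y⁻¹ = z := by
        rw [hQab y hy z hz']; group
      rw [h1]
      exact hz
    have hDC' : pkgBIm N0 φ D ≤ Subgroup.normalizer (C' : Set X) := by
      apply le_normalizer_of_conj_mem'
      intro y hy z hz
      rw [hC'def] at hz ⊢
      exact ⟨conj_mem_of_mem_normalizer' (hKM hy) hz.1,
        conj_mem_centralizer_of_mem_normalizer' (Subgroup.le_normalizer hy) hz.2⟩
    have hRC' : pkgBIm N0 φ R ≤ Subgroup.normalizer (C' : Set X) := by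
      apply le_normalizer_of_conj_mem'
      intro y hy z hz
      rw [hC'def] at hz ⊢
      exact ⟨conj_mem_of_mem_normalizer' (hRM hy) hz.1,
        conj_mem_centralizer_of_mem_normalizer' (hRK hy) hz.2⟩
    have hLN : Q ⊔ D ⊔ R ≤ Subgroup.normalizer (N : Set G) :=
      sup_le (sup_le (hC'norm Q hQN Subgroup.le_normalizer hQC') (hC'norm D hDN hDQ hDC'))
        (hC'norm R hRN hRQ hRC')
    rcases hQ0N.lt_or_eq with hlt | heq
    · rcases hNQ.lt_or_eq with hlt2 | heq2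
      · exact absurd hLN (hmin N hlt hlt2)
      · exfalso
        apply hQ0lt.ne
        apply le_antisymm hQ0Q
        intro x hx
        rw [hQ0def]
        refine Subgroup.mem_inf.mpr ⟨hx, ?_⟩
        rw [Subgroup.mem_centralizer_iff]
        intro d hd
        have hxN : x ∈ N := by rw [heq2]; exact hx
        obtain ⟨_, hxN0, hxC⟩ := (hmemN x).mp hxN
        rw [hC'def] at hxC
        have hc : φ ⟨d, hDN hd⟩ * φ ⟨x, hxN0⟩ = φ ⟨x, hxN0⟩ * φ ⟨d, hDN hd⟩ :=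
          (Subgroup.mem_centralizer_iff.mp hxC.2) _ (map_mem_pkgBIm hd)
        exact htrick ⟨d, hDN hd⟩ hd ⟨x, hxN0⟩ hx hc
    · rw [eq_bot_iff]
      intro y hy
      have hy' := hy
      rw [hC'def] at hy'
      obtain ⟨x, hx, rfl⟩ := mem_pkgBIm.mp hy'.1
      have hxN : (x : G) ∈ N := (hmemN _).mpr ⟨hx, x.2, hy⟩
      rw [← heq] at hxN
      rw [Subgroup.mem_bot]
      exact (hker x).mpr hxN
  -- `C(x) = C(R)` on the image of `Q`
  have hpr : ∀ x ∈ pkgBIm N0 φ R, x ≠ 1 →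
      pkgBIm N0 φ Q ⊓ Subgroup.centralizer ({x} : Set X) =
        pkgBIm N0 φ Q ⊓ Subgroup.centralizer (pkgBIm N0 φ R : Set X) := by
    intro x hx hx1
    apply le_antisymm
    · intro y hy
      refine ⟨hy.1, ?_⟩
      have h1 : x * y = y * x := (Subgroup.mem_centralizer_iff.mp hy.2) x (Set.mem_singleton _)
      exact mem_centralizer_of_commute_of_prime_card (by rw [hcardKR]; exact hp) hx hx1 h1.symm
    · intro y hy
      refine ⟨hy.1, ?_⟩
      exact Subgroup.centralizer_le (Set.singleton_subset_iff.mpr hx) hy.2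
  -- apply S1446
  obtain ⟨-, hMcard, hcyc⟩ := Cfsg.Agent.S1446.result (pkgBIm N0 φ D) (pkgBIm N0 φ R)
    (pkgBIm N0 φ Q) hKD1 hKR1 hKRbot hRK hfrob hsolvX hoddX hM1 hMn hKM hRM hcop hCK hpr
  -- `|Q / Q0| = q ^ p`
  have hkerφ : φ.ker = Q0.subgroupOf N0 := by
    ext a
    rw [MonoidHom.mem_ker, hker a, Subgroup.mem_subgroupOf]
  have hcardQ : Nat.card (pkgBIm N0 φ Q) = q ^ p := by
    have h1 : φ.ker.relIndex (Q.subgroupOf N0) = Nat.card ((Q.subgroupOf N0).map φ) :=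
      Subgroup.relIndex_ker _ φ
    rw [hkerφ, Subgroup.relIndex_subgroupOf hQN] at h1
    have h3 : Nat.card Q0 * Q0.relIndex Q = Nat.card Q :=
      Cfsg.Agent.Lib.Helper35.BG.card_mul_relIndex' hQ0Q
    have hpos : 0 < Nat.card Q0 := Nat.card_pos
    unfold pkgBIm
    rw [← h1]
    apply Nat.eq_of_mul_eq_mul_left hpos
    rw [h3, hcard]
  have hcardC : Nat.card ↥(pkgBIm N0 φ Q ⊓ Subgroup.centralizer (pkgBIm N0 φ R : Set X)) = q := by
    rw [hcardQ, hcardKR] at hMcard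
    exact (Nat.pow_left_injective hp.ne_zero hMcard).symm
  have hcycC : IsCyclic ↥(pkgBIm N0 φ Q ⊓ Subgroup.centralizer (pkgBIm N0 φ R : Set X)) :=
    isCyclic_of_prime_card hcardC
  have hfin := hcyc hcycC
  -- conclusion
  rw [Subgroup.commutator_le]
  intro a ha b hb
  rw [Subgroup.mem_centralizer_iff]
  intro x hx
  have h1 : φ ⁅(⟨a, hDN ha⟩ : N0), ⟨b, hDN hb⟩⁆ ∈ ⁅pkgBIm N0 φ D, pkgBIm N0 φ D⁆ := by
    rw [map_commutatorElement]
    exact Subgroup.commutator_mem_commutator (map_mem_pkgBIm ha) (map_mem_pkgBIm hb)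
  have h2 := (Subgroup.mem_centralizer_iff.mp (hfin h1)) (φ ⟨x, hQN hx⟩) (map_mem_pkgBIm hx)
  have h3 : ((⁅(⟨a, hDN ha⟩ : N0), ⟨b, hDN hb⟩⁆ : N0) : G) ∈ D := by
    rw [commutatorElement_def]
    exact D.mul_mem (D.mul_mem (D.mul_mem ha hb) (D.inv_mem ha)) (D.inv_mem hb)
  have h4 := htrick ⁅(⟨a, hDN ha⟩ : N0), ⟨b, hDN hb⟩⁆ h3 ⟨x, hQN hx⟩ hx h2.symm
  exact h4.symm

/-- **PkgB** of the S1356 project. -/
theorem pkgB : Cfsg.Agent.Lib.Helper9.BG1356.PkgB.{u} := by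
  intro G _ _ Q D R p q hodd hp hq hpq hsolv hQ hDQ hRQ hRD hRcard hqD hpD hDR hQ0lt hcard hcomm
    hmin
  obtain ⟨Q0, hQ0def⟩ : ∃ Q0 : Subgroup G, Q0 = Q ⊓ Subgroup.centralizer (D : Set G) := ⟨_, rfl⟩
  simp only [← hQ0def] at hQ0lt hcard hcomm hmin
  have hQ0Q : Q0 ≤ Q := hQ0lt.le
  have hQ0C : Q0 ≤ Subgroup.centralizer (D : Set G) := by rw [hQ0def]; exact inf_le_right
  have hQN : Q ≤ Subgroup.normalizer (Q0 : Set G) := by
    apply le_normalizer_of_conj_mem'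
    intro a ha x hx
    have h1 := hcomm a ha x (hQ0Q hx)
    have h2 : a * x * a⁻¹ = (a * x * a⁻¹ * x⁻¹) * x := by group
    rw [h2]
    exact Q0.mul_mem h1 hx
  have hDN : D ≤ Subgroup.normalizer (Q0 : Set G) := by
    apply le_normalizer_of_conj_mem'
    intro d hd x hx
    have h1 := (Subgroup.mem_centralizer_iff.mp (hQ0C hx)) d hd
    have h2 : d * x * d⁻¹ = x := by rw [h1]; group
    rw [h2]
    exact hx
  have hRN : R ≤ Subgroup.normalizer (Q0 : Set G) := by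
    apply le_normalizer_of_conj_mem'
    intro r hr x hx
    rw [hQ0def]
    exact ⟨conj_mem_of_mem_normalizer' (hRQ hr) (hQ0Q hx),
      conj_mem_centralizer_of_mem_normalizer' (hRD hr) (hQ0C hx)⟩
  have hnorm : (Q0.subgroupOf (Subgroup.normalizer (Q0 : Set G))).Normal :=
    Subgroup.normal_in_normalizer
  exact pkgB_aux Q D R Q0 (Subgroup.normalizer (Q0 : Set G))
    (QuotientGroup.mk' (Q0.subgroupOf (Subgroup.normalizer (Q0 : Set G)))) p q
    (fun a => by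
      rw [QuotientGroup.mk'_apply, QuotientGroup.eq_one_iff, Subgroup.mem_subgroupOf])
    hQN hDN hRN hQ0def hodd hp hq hpq hsolv hQ hDQ hRQ hRD hRcard hqD hpD hDR hQ0lt hcard hcomm
    hmin

end Cfsg.Agent.Lib.Helper57.BG1356
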